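import Groth.Agent.DefObs29.HomEq

/-!
The obstruction class of a deformation and its behaviour under changes of the extension.
-/

universe u

open CategoryTheory CategoryTheory.Limits AlgebraicGeometry Opposite TopologicalSpace IsLocalRing ArtFun Abelian

set_option backward.isDefEq.respectTransparency false
set_option backward.isDefEq.respectTransparency.types false

noncomputable section

namespace Groth.Agent.DefObs29

open Scheme Groth.Agent.DefGlueLib Groth.Agent.DefTan29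

variable {k : Type u} [Field k] {X : Scheme.{u}} [X.Over (Spec (CommRingCat.of k))] [QuasiSeparated (xk k X)]

local notation "x₀" => xk k X

variable {C C' C'' : Art k k} {p : C' ⟶ C} {q : C'' ⟶ C} {ξ₀ : DefSch X (xk k X) C}

variable (q ξ₀) in
/-- Pieces with transition maps on nested pairs, over a fixed deformation. -/
structure Tgt : Type (u + 1) where
  /-- the pieces -/
  D : PDef (xk k X) C''
  /-- the reductions -/
  Ψ : ∀ U : AffineZariskiSite X, D.R.obj (op U) →+* (ofSch ξ₀).R.obj (op U)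
  Ψ_a : ∀ U c, Ψ U (D.a (op U) c) = (ofSch ξ₀).a (op U) (q c)
  Ψ_q : ∀ U z, ((ofSch ξ₀).qU U).hom (Ψ U z) = (D.qU U).hom z
  /-- the transition maps -/
  Φ : ∀ {U V : AffineZariskiSite X}, V ≤ U → (D.R.obj (op U) →+* D.R.obj (op V))
  Φ_a : ∀ {U V : AffineZariskiSite X} (h : V ≤ U) c, Φ h (D.a (op U) c) = D.a (op V) c
  Φ_Ψ : ∀ {U V : AffineZariskiSite X} (h : V ≤ U) z, Ψ V (Φ h z) = rho ξ₀ (tm h) (Ψ U z)

/-- The target of local lifts. -/
def Sys.tgt (L : Sys q ξ₀) : Tgt q ξ₀ where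
  D := D' k X C''
  Ψ := L.ψ
  Ψ_a := L.ψ_a
  Ψ_q := L.ψ_q
  Φ h := L.φ (tm h)
  Φ_a h := L.φ_a (tm h)
  Φ_Ψ h := L.φ_ψ (tm h)

variable (L : Sys p ξ₀) (F : Fr p) (hp : Function.Surjective p) (T : Tgt q ξ₀) (F' : Fr q)
  (hq : Function.Surjective q) (g : C' ⟶ C'') (hg : g ≫ q = p)

theorem Tgt.Φ_q {U V : AffineZariskiSite X} (h : V ≤ U) (z : T.D.R.obj (op U)) :
    (T.D.qU V).hom (T.Φ h z) = rs (tm h) ((T.D.qU U).hom z) := by
  rw [← T.Ψ_q, T.Φ_Ψ, rho_q, T.Ψ_q]

include hq in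
theorem Tgt.ker_Ψ (U : AffineZariskiSite X) :
    Function.Surjective (T.Ψ U) ∧ RingHom.ker (T.Ψ U) = (RingHom.ker q.toAlgHom).map (T.D.a (op U)) :=
  ((T.D.isDef (op U)).map_ker ((ofSch ξ₀).isDef (op U)) q (T.Ψ U) (T.Ψ_a U) (T.Ψ_q U)).2 hq

include hg hq in
theorem exists_compare [Smooth (xk k X)] (U : AffineZariskiSite X) :
    ∃ τ : (D' k X C').R.obj (op U) →+* T.D.R.obj (op U),
      (∀ c, τ ((D' k X C').a (op U) c) = T.D.a (op U) (g c)) ∧ ∀ z, T.Ψ U (τ z) = L.ψ U z := by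
  obtain ⟨s, hs, hsc⟩ := DefTan29.exists_lift (str (xk k X) U) (smooth_str U)
    (((D' k X C').a (op U)).comp (algebraMap k C')) ((D' k X C').qU U).hom (map_qU_surjective _ U)
    (isNilpotent_ker_q ((D' k X C').isDef (op U))) (RingHom.id _) fun t =>
      (((D' k X C').isDef (op U)).comm _).trans (congrArg (str (xk k X) U) (C'.res.commutes t))
  have hn : IsNilpotent (RingHom.ker (T.Ψ U)) := by
    obtain ⟨n, hn⟩ := isNilpotent_ker_q (T.D.isDef (op U))
    refine ⟨n, le_bot_iff.1 ((Ideal.pow_right_mono (fun z hz => ?_) n).trans hn.le)⟩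
    rw [RingHom.mem_ker] at hz ⊢
    exact (T.Ψ_q U z).symm.trans ((congrArg _ hz).trans (map_zero _))
  have hpq : ∀ c, q (g c) = p c := fun c => (Art.comp_apply g q c).symm.trans (by rw [hg])
  obtain ⟨s', hs', hsc'⟩ := DefTan29.exists_lift (str (xk k X) U) (smooth_str U)
    ((T.D.a (op U)).comp (algebraMap k C'')) (T.Ψ U) (T.ker_Ψ hq U).1 hn ((L.ψ U).comp s) fun t => by
      refine (T.Ψ_a U _).trans (Eq.trans ?_ (congrArg (L.ψ U) (hsc t)).symm)
      refine Eq.trans ?_ (L.ψ_a U _).symm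
      exact congrArg ((ofSch ξ₀).a (op U)) ((q.toAlgHom.commutes t).trans (p.toAlgHom.commutes t).symm)
  obtain ⟨τ, h1, h2⟩ := exists_trivHom ((D' k X C').isDef (op U)) s hs hsc
    ((T.D.a (op U)).comp g.toAlgHom.toRingHom) s' fun t =>
      (hsc' t).trans (congrArg (T.D.a (op U)) (g.toAlgHom.commutes t).symm)
  refine ⟨τ, h1, RingHom.congr_fun (ext_of_gen ((D' k X C').isDef (op U)) s hs ((T.Ψ U).comp τ) (L.ψ U)
    (fun c => ?_) fun b => ?_)⟩
  · exact (congrArg (T.Ψ U) (h1 c)).trans ((T.Ψ_a U _).trans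
      ((congrArg ((ofSch ξ₀).a (op U)) (hpq c)).trans (L.ψ_a U c).symm))
  · exact (congrArg (T.Ψ U) (h2 b)).trans (hs' b)

/-- The coordinate of the defect of the target. -/
def tcd (i : Fin F'.r) {U V S : AffineZariskiSite X} (h : V ≤ U) (h' : S ≤ V) (z : T.D.R.obj (op U)) :
    Γ(X, S.toOpens) :=
  pair (T.D.isDef (op S)) (F'.isFun i) (T.Φ h' (T.Φ h z) - T.Φ (h'.trans h) z)

include hq hg in
theorem exists_cobound [Smooth (xk k X)] (i : Fin F'.r) :
    ∃ φ : Omega.sheaf x₀ ⟶ PF (low2 X),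
      ∀ {U V S : AffineZariskiSite X} (h : V ≤ U) (h' : S ≤ V) (z' : T.D.R.obj (op U)),
        tcd T F' i h h' z' =
          ∑ j, str x₀ S (F'.l i (g (F.ys j))) * L.cd F (tm h) (tm h') hp j ((T.D.qU U).hom z') +
            homDer (u₀ := low X) (φ ≫ coB1 X) ⟨(U, V, S), h, h'⟩ (rs (tm (h'.trans h)) ((T.D.qU U).hom z')) := by
  choose τ hτa hτψ using exists_compare L T hq g hg
  have hτq : ∀ U z, (T.D.qU U).hom (τ U z) = ((D' k X C').qU U).hom z := fun U z => by
    rw [← T.Ψ_q, hτψ, L.ψ_q]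
  have hτ0 : ∀ U z, ((D' k X C').qU U).hom z = 0 → z ∈ (maximalIdeal C').map ((D' k X C').a (op U)) :=
    fun U z hz => ((D' k X C').isDef (op U)).ker_le (RingHom.mem_ker.2 hz)
  have hm : ∀ {U V : AffineZariskiSite X} (h : V ≤ U) z,
      T.Φ h (τ U z) - τ V (L.φ (tm h) z) ∈ F'.J.map (T.D.a (op V)) := fun {U V} h z => by
    rw [show F'.J.map (T.D.a (op V)) = RingHom.ker (T.Ψ V) from (T.ker_Ψ hq V).2.symm, RingHom.mem_ker, map_sub,
      T.Φ_Ψ, hτψ, hτψ, L.φ_ψ, sub_self]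
  have hw : ∀ {U V : AffineZariskiSite X} (h : V ≤ U) z, ((D' k X C').qU U).hom z = 0 →
      T.Φ h (τ U z) - τ V (L.φ (tm h) z) = 0 := fun {U V} h z hz => by
    refine map_induction (a := (D' k X C').a (op U)) (I := maximalIdeal C')
      (P := fun z => T.Φ h (τ U z) - τ V (L.φ (tm h) z) = 0) ?_ ?_ ?_ (hτ0 U z hz)
    · simp
    · intro w w' _ _ e e'
      simp only [map_add] at e e' ⊢
      linear_combination e + e'
    · intro y hy s
      have hy' : g y ∈ maximalIdeal C'' := by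
        rw [Art.mem_maximalIdeal_iff, Art.res_app, ← Art.mem_maximalIdeal_iff]; exact hy
      have h0 := Ideal.mul_mem_mul (Ideal.mem_map_of_mem (T.D.a (op V)) hy') (hm h s)
      rw [← Ideal.map_mul, show maximalIdeal C'' * F'.J = ⊥ from le_bot_iff.1 (Ideal.mul_le.2 fun m hm y hy =>
        Ideal.mem_bot.2 (F'.mul_eq_zero hm hy)), Ideal.map_bot, Ideal.mem_bot] at h0
      simp only [map_mul, L.φ_a, hτa, T.Φ_a] at h0 ⊢
      linear_combination h0
  let E : ∀ {U V : AffineZariskiSite X}, V ≤ U → (D' k X C').R.obj (op U) → Γ(X, V.toOpens) := fun {U V} h z =>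
    pair (T.D.isDef (op V)) (F'.isFun i) (T.Φ h (τ U z) - τ V (L.φ (tm h) z))
  have hE : ∀ {U V : AffineZariskiSite X} (h : V ≤ U) z z',
      ((D' k X C').qU U).hom z = ((D' k X C').qU U).hom z' → E h z = E h z' := fun {U V} h z z' e => by
    show pair _ _ _ = pair _ _ _
    refine congrArg _ (sub_eq_zero.1 ?_)
    have := hw h (z - z') (by rw [map_sub, e, sub_self])
    simp only [map_sub] at this
    linear_combination this
  let e : ∀ {U V : AffineZariskiSite X}, V ≤ U → (Γ(X, U.toOpens) →+ Γ(X, V.toOpens)) := fun {U V} h =>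
    AddMonoidHom.mk' (fun a => E h (map_qU_surjective (D' k X C') U a).choose) fun a b => by
      show E h _ = E h _ + E h _
      rw [hE h _ ((map_qU_surjective (D' k X C') U a).choose + (map_qU_surjective (D' k X C') U b).choose) ?_]
      · show pair _ _ _ = pair _ _ _ + pair _ _ _
        rw [← pair_add _ _ (hm h _) (hm h _)]
        refine congrArg _ ?_
        simp only [map_add]
        ring
      · refine (map_qU_surjective (D' k X C') U (a + b)).choose_spec.trans ((map_add _ _ _).trans ?_).symm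
        exact congrArg₂ (· + ·) (map_qU_surjective (D' k X C') U a).choose_spec
          (map_qU_surjective (D' k X C') U b).choose_spec
  have he : ∀ {U V : AffineZariskiSite X} (h : V ≤ U) z, e h (((D' k X C').q.app (op U)).hom z) = E h z :=
    fun {U V} h z => hE h _ _ (map_qU_surjective (D' k X C') U _).choose_spec
  obtain ⟨φ, hφ⟩ := exists_pairHom (k := k) e
    (fun {U V} h a b => by
      obtain ⟨z, rfl⟩ := map_qU_surjective (D' k X C') U a
      obtain ⟨z', rfl⟩ := map_qU_surjective (D' k X C') U b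
      refine (congrArg (e h) (map_mul ((D' k X C').q.app (op U)).hom z z').symm).trans ?_
      rw [he, he, he]
      show pair _ _ _ = _
      rw [show T.Φ h (τ U (z * z')) - τ V (L.φ (tm h) (z * z')) =
          T.Φ h (τ U z) * (T.Φ h (τ U z') - τ V (L.φ (tm h) z')) +
            τ V (L.φ (tm h) z') * (T.Φ h (τ U z) - τ V (L.φ (tm h) z)) by simp only [map_mul]; ring,
        pair_add _ _ (Ideal.mul_mem_left _ _ (hm h _)) (Ideal.mul_mem_left _ _ (hm h _)),
        pair_smul _ _ _ (hm h _), pair_smul _ _ _ (hm h _)]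
      exact congrArg₂ (· + ·) (congrArg (· * _) ((T.Φ_q h _).trans (congrArg (rs (tm h)) (hτq U z))))
        (congrArg (· * _) ((hτq V _).trans (L.φ_q (tm h) z'))))
    (fun {U V} h c => by
      have e1 : str x₀ U c = ((D' k X C').q.app (op U)).hom ((D' k X C').a (op U) (algebraMap k C' c)) :=
        ((congrArg (str x₀ U) (C'.res.commutes c)).symm).trans (((D' k X C').isDef (op U)).comm _).symm
      rw [e1, he]
      show pair _ _ _ = 0
      rw [hτa, L.φ_a, hτa, T.Φ_a, sub_self, pair_zero])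
  refine ⟨φ, fun {U V S} h h' z' => ?_⟩
  set a := (T.D.qU U).hom z' with ha
  obtain ⟨z, hz⟩ := map_qU_surjective (D' k X C') U a
  have hz' : ∀ w, (T.D.qU U).hom w = 0 → T.Φ h' (T.Φ h w) - T.Φ (h'.trans h) w = 0 := fun w hw0 => by
    refine map_induction (a := T.D.a (op U)) (I := maximalIdeal C'')
      (P := fun w => T.Φ h' (T.Φ h w) - T.Φ (h'.trans h) w = 0) ?_ ?_ ?_
      ((T.D.isDef (op U)).ker_le (RingHom.mem_ker.2 hw0))
    · simp
    · intro w w' _ _ e e'
      simp only [map_add] at e e' ⊢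
      linear_combination e + e'
    · intro y hy s
      have hs : T.Φ h' (T.Φ h s) - T.Φ (h'.trans h) s ∈ F'.J.map (T.D.a (op S)) := by
        rw [show F'.J.map (T.D.a (op S)) = RingHom.ker (T.Ψ S) from (T.ker_Ψ hq S).2.symm, RingHom.mem_ker, map_sub,
          T.Φ_Ψ, T.Φ_Ψ, T.Φ_Ψ, rho_rho, sub_self]
      have h0 := Ideal.mul_mem_mul (Ideal.mem_map_of_mem (T.D.a (op S)) hy) hs
      rw [← Ideal.map_mul, show maximalIdeal C'' * F'.J = ⊥ from le_bot_iff.1 (Ideal.mul_le.2 fun m hm y hy =>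
        Ideal.mem_bot.2 (F'.mul_eq_zero hm hy)), Ideal.map_bot, Ideal.mem_bot] at h0
      simp only [map_mul, T.Φ_a] at h0 ⊢
      linear_combination h0
  have hzz : T.Φ h' (T.Φ h z') - T.Φ (h'.trans h) z' = T.Φ h' (T.Φ h (τ U z)) - T.Φ (h'.trans h) (τ U z) := by
    have := hz' (z' - τ U z) (by rw [map_sub, hτq]; exact sub_eq_zero.2 (ha.symm.trans hz.symm))
    simp only [map_sub] at this
    linear_combination this
  have hd := eq_sum_ins F (D' k X C') (L.dft_mem F (tm h) (tm h') hp z)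
  have hgy : ∀ j, q (g (F.ys j)) = 0 := fun j => by
    rw [← Art.comp_apply g q, hg]; exact F.map_ys j
  have hτins : ∀ (j : Fin F.r) (b : Γ(X, S.toOpens)),
      τ S (ins (D' k X C') (F.ys j) S b) ∈ F'.J.map (T.D.a (op S)) ∧
      pair (T.D.isDef (op S)) (F'.isFun i) (τ S (ins (D' k X C') (F.ys j) S b)) =
        str x₀ S (F'.l i (g (F.ys j))) * b := fun j b => by
    obtain ⟨w, hw⟩ := map_qU_surjective (D' k X C') S b
    rw [ins_eq _ (F.small j) w hw, map_mul, hτa]
    refine ⟨Ideal.mul_mem_right _ _ (Ideal.mem_map_of_mem _ (hgy j)), ?_⟩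
    rw [pair_gen _ _ (hgy j)]
    exact congrArg (_ * ·) ((hτq S w).trans hw)
  have hΦm : ∀ w, w ∈ F'.J.map (T.D.a (op V)) → T.Φ h' w ∈ F'.J.map (T.D.a (op S)) := fun w hw1 => by
    have h1 := Ideal.mem_map_of_mem (T.Φ h') hw1
    rwa [Ideal.map_map, show (T.Φ h').comp (T.D.a (op V)) = T.D.a (op S) from RingHom.ext (T.Φ_a h')] at h1
  have key : T.Φ h' (T.Φ h (τ U z)) - T.Φ (h'.trans h) (τ U z) =
      ∑ j, τ S (ins (D' k X C') (F.ys j) S (pair ((D' k X C').isDef (op S)) (F.isFun j) (L.dft (tm h) (tm h') z))) +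
        ((T.Φ h' (τ V (L.φ (tm h) z)) - τ S (L.φ (tm h') (L.φ (tm h) z))) +
          T.Φ h' (T.Φ h (τ U z) - τ V (L.φ (tm h) z)) -
          (T.Φ (h'.trans h) (τ U z) - τ S (L.φ (tm (h'.trans h)) z))) := by
    rw [← map_sum, ← hd]
    simp only [Sys.dft, map_sub]
    ring
  have hsum : (∑ j, τ S (ins (D' k X C') (F.ys j) S (pair ((D' k X C').isDef (op S)) (F.isFun j)
      (L.dft (tm h) (tm h') z)))) ∈ F'.J.map (T.D.a (op S)) := Ideal.sum_mem _ fun j _ => (hτins j _).1
  have hps : ∀ (s : Finset (Fin F.r)) (f : Fin F.r → T.D.R.obj (op S)), (∀ j, f j ∈ F'.J.map (T.D.a (op S))) →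
      pair (T.D.isDef (op S)) (F'.isFun i) (∑ j ∈ s, f j) =
        ∑ j ∈ s, pair (T.D.isDef (op S)) (F'.isFun i) (f j) := fun s f hf => by
    classical
    induction s using Finset.induction with
    | empty => rw [Finset.sum_empty, Finset.sum_empty, pair_zero]
    | insert j s hj ih =>
      rw [Finset.sum_insert hj, Finset.sum_insert hj, pair_add _ _ (hf j) (Ideal.sum_mem _ fun x _ => hf x), ih]
  have hsub : ∀ {w w' : T.D.R.obj (op S)}, w ∈ F'.J.map (T.D.a (op S)) → w' ∈ F'.J.map (T.D.a (op S)) →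
      pair (T.D.isDef (op S)) (F'.isFun i) (w - w') =
        pair (T.D.isDef (op S)) (F'.isFun i) w - pair (T.D.isDef (op S)) (F'.isFun i) w' := fun {w w'} hw1 hw2 =>
    eq_sub_of_add_eq ((pair_add _ _ (Ideal.sub_mem _ hw1 hw2) hw2).symm.trans (congrArg _ (sub_add_cancel w w')))
  rw [tcd, hzz, key, pair_add _ _ hsum (Ideal.sub_mem _ (Ideal.add_mem _ (hm h' _) (hΦm _ (hm h z))) (hm _ z)),
    hsub (Ideal.add_mem _ (hm h' _) (hΦm _ (hm h z))) (hm (h'.trans h) z), pair_add _ _ (hm h' _) (hΦm _ (hm h z)),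
    hps _ _ (fun j => (hτins j _).1)]
  refine congrArg₂ (· + ·) (Finset.sum_congr rfl fun j _ => ?_) ?_
  · rw [(hτins j _).2, ← hz, L.cd_q]
  · rw [homDer_coB1 φ h h' a, hφ (h'.trans h) a, hφ h a,
      show rs (tm (h'.trans h)) a = rs (tm h') (rs (tm h) a) from (rs_rs _ _ _).symm, hφ h' (rs (tm h) a)]
    have e1 : e h' (rs (tm h) a) = E h' (L.φ (tm h) z) := by
      rw [← hz]
      exact (congrArg (e h') (L.φ_q (tm h) z).symm).trans (he h' _)
    have e2 : rs (tm h') (e h a) = pair (T.D.isDef (op S)) (F'.isFun i)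
        (T.Φ h' (T.Φ h (τ U z) - τ V (L.φ (tm h) z))) := by
      rw [← hz, he]
      exact pair_natural (T.D.isDef (op V)) (F'.isFun i) (T.D.isDef (op S)) (T.Φ h') (rs (tm h'))
        (T.Φ_a h') (T.Φ_q h') (fun t => str_rs (tm h') t) (hm h z)
    rw [e1, e2, ← hz, he]
    ring

end Groth.Agent.DefObs29
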