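import Groth.Agent.DefObs29.Build

/-!
Maps out of differentials into families are determined on the defining pieces; coboundaries in coordinates.
-/

universe u

open CategoryTheory CategoryTheory.Limits AlgebraicGeometry Opposite TopologicalSpace IsLocalRing ArtFun Abelian

set_option backward.isDefEq.respectTransparency false
set_option backward.isDefEq.respectTransparency.types false

noncomputable section

namespace Groth.Agent.DefObs29

open Scheme Groth.Agent.DefGlueLib Groth.Agent.DefTan29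

variable {k : Type u} [Field k] {X : Scheme.{u}} [X.Over (Spec (CommRingCat.of k))] [QuasiSeparated (xk k X)]

section Any

variable {ι : Type u} {u₀ : ι → AffineZariskiSite X}

local notation "x₀" => xk k X

theorem homDer_add (σ σ' : Omega.sheaf x₀ ⟶ PF u₀) (i : ι) (a : Γ(X, (u₀ i).toOpens)) :
    homDer (σ + σ') i a = homDer σ i a + homDer σ' i a :=
  map_add (rs (le_inf le_rfl le_rfl)) _ _

/-- Additivity. -/
def homDerHom (i : ι) (a : Γ(X, (u₀ i).toOpens)) : (Omega.sheaf x₀ ⟶ PF u₀) →+ Γ(X, (u₀ i).toOpens) :=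
  AddMonoidHom.mk' (fun σ => homDer σ i a) fun σ σ' => homDer_add σ σ' i a

theorem homDer_smul (c : k) (σ : Omega.sheaf x₀ ⟶ PF u₀) (i : ι) (a : Γ(X, (u₀ i).toOpens)) :
    homDer (c • σ) i a = str x₀ (u₀ i) c * homDer σ i a := by
  show rs _ (fn (toFam ((c • σ).app (u₀ i).toOpens ((OmegaSh.dOmega x₀).app (u₀ i).toOpens a)) i)) = _
  rw [KLin.smul_app_apply]
  show rs _ (rs inf_le_left (rs le_top (Coh.toGlobal (X ↘ Spec (CommRingCat.of k)) c)) * _) = _
  rw [map_mul, rs_rs, rs_rs]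
  rfl

theorem pf_hom_ext {σ σ' : Omega.sheaf x₀ ⟶ PF u₀}
    (h : ∀ i a, homDer σ i a = homDer σ' i a) : σ = σ' := by
  refine DefTan29.hom_ext fun W s => funext fun i => DefGlueLib.eq_of_locally fun q hq => ?_
  obtain ⟨T, hT, hTW, hqT⟩ := exists_cover hq
  refine ⟨T.toOpens, le_inf hTW (tm hT), hqT, ?_⟩
  have key : ∀ τ : Omega.sheaf x₀ ⟶ PF u₀, ∃ δ : Γ(X, T.toOpens) →+ Γ(X, T.toOpens), IsLeib le_rfl δ ∧
      (∀ y, δ (rs (tm hT) y) = rs (tm hT) (homDer τ i y)) ∧
      ∀ (s : Γ(X, W)),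
        rs (le_inf hTW (tm hT)) (fn (toFam (τ.app W ((OmegaSh.dOmega x₀).app W s)) i)) = δ (rs hTW s) := by
    intro τ
    refine ⟨AddMonoidHom.mk' (fun x => rs (le_inf le_rfl (tm hT))
      (fn (toFam (τ.app T.toOpens ((OmegaSh.dOmega x₀).app T.toOpens x)) i))) fun a b => ?_, fun a b => ?_,
      fun y => homDer_spec τ i (tm hT) y, fun s => ?_⟩
    · rw [← map_add]
      refine congrArg (rs _) ?_
      rw [map_add (OmegaSh.dOmega x₀ |>.app T.toOpens), map_add]
      rfl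
    · show rs _ (fn (toFam (τ.app _ ((OmegaSh.dOmega x₀).app _ (a * b))) i)) = _
      rw [show (OmegaSh.dOmega x₀).app T.toOpens (a * b) =
          a • (OmegaSh.dOmega x₀).app T.toOpens b + b • (OmegaSh.dOmega x₀).app T.toOpens a from
        (OmegaSh.dOmega x₀).d_mul (X := op T.toOpens) a b, map_add, Scheme.Modules.Hom.app_smul,
        Scheme.Modules.Hom.app_smul]
      show rs (le_inf le_rfl (tm hT)) (rs inf_le_left a * _ + rs inf_le_left b * _) = _
      rw [map_add, map_mul, map_mul, rs_rs, rs_rs]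
      rfl
    · show _ = rs _ (fn (toFam (τ.app T.toOpens ((OmegaSh.dOmega x₀).app T.toOpens (rs hTW s))) i))
      rw [show (OmegaSh.dOmega x₀).app T.toOpens (rs hTW s) =
        AModX.res _ hTW ((OmegaSh.dOmega x₀).app W s) from (OmegaSh.dOmega x₀).d_map (homOfLE hTW).op s,
        AModX.app_res]
      show _ = rs _ (rs (inf_le_inf_right _ hTW) _)
      rw [rs_rs]
      rfl
  obtain ⟨δ, hδ, hδy, hδs⟩ := key σ
  obtain ⟨δ', hδ', hδy', hδs'⟩ := key σ'
  have e : δ = δ' := leib_ext hT le_rfl hδ hδ' fun y => by rw [hδy, hδy', h]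
  exact (hδs s).trans ((DFunLike.congr_fun e _).trans (hδs' s).symm)

end Any

local notation "x₀" => xk k X

theorem p2_hom_ext {σ σ' : Omega.sheaf x₀ ⟶ P2 X}
    (h : ∀ {U V S : AffineZariskiSite X} (h₁ : V ≤ U) (h₂ : S ≤ V) (a : Γ(X, U.toOpens)),
      homDer (u₀ := low X) σ ⟨(U, V, S), h₁, h₂⟩ (rs (tm (h₂.trans h₁)) a) =
        homDer (u₀ := low X) σ' ⟨(U, V, S), h₁, h₂⟩ (rs (tm (h₂.trans h₁)) a)) : σ = σ' :=
  pf_hom_ext fun i => DFunLike.congr_fun (leib_ext (i.2.2.trans i.2.1) le_rfl (homDer_mul σ i) (homDer_mul σ' i)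
    fun a => by obtain ⟨⟨U, V, S⟩, h₁, h₂⟩ := i; exact h h₁ h₂ a)

theorem homDer_coB1 (φ : Omega.sheaf x₀ ⟶ PF (low2 X)) {U V S : AffineZariskiSite X} (h : V ≤ U) (h' : S ≤ V)
    (a : Γ(X, U.toOpens)) :
    homDer (u₀ := low X) (φ ≫ coB1 X) ⟨(U, V, S), h, h'⟩ (rs (tm (h'.trans h)) a) =
      homDer (u₀ := low2 X) φ ⟨(V, S), h'⟩ (rs (tm (h'.trans h)) a) -
        homDer (u₀ := low2 X) φ ⟨(U, S), h'.trans h⟩ (rs (tm (h'.trans h)) a) +
        rs (tm h') (homDer (u₀ := low2 X) φ ⟨(U, V), h⟩ (rs (tm h) a)) := by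
  set x := rs (tm (h'.trans h)) a with hx
  have h3 : rs (le_inf le_rfl (tm h')) (fn (toFam (φ.app S.toOpens
      ((OmegaSh.dOmega x₀).app S.toOpens x)) ⟨(U, V), h⟩)) =
        rs (tm h') (homDer (u₀ := low2 X) φ ⟨(U, V), h⟩ (rs (tm h) a)) := by
    rw [← homDer_spec (u₀ := low2 X) φ ⟨(U, V), h⟩ (tm h') (rs (tm h) a), rs_rs]
  show rs (le_inf le_rfl le_rfl) (fn (toFam (φ.app S.toOpens _) ⟨(V, S), h'⟩) -
      fn (toFam (φ.app S.toOpens _) ⟨(U, S), h'.trans h⟩) +
      rs (inf_le_inf_left _ (tm h')) (fn (toFam (φ.app S.toOpens _) ⟨(U, V), h⟩))) = _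
  rw [map_add, map_sub, rs_rs]
  exact congrArg₂ (· + ·) rfl h3

/-- A map out of differentials from derivations on pairs. -/
theorem exists_pairHom (e : ∀ {U V : AffineZariskiSite X}, V ≤ U → (Γ(X, U.toOpens) →+ Γ(X, V.toOpens)))
    (hmul : ∀ {U V : AffineZariskiSite X} (h : V ≤ U), IsLeib (tm h) (e h))
    (hconst : ∀ {U V : AffineZariskiSite X} (h : V ≤ U) c, e h (str x₀ U c) = 0) :
    ∃ φ : Omega.sheaf x₀ ⟶ PF (low2 X), ∀ {U V : AffineZariskiSite X} (h : V ≤ U) (a : Γ(X, U.toOpens)),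
      homDer (u₀ := low2 X) φ ⟨(U, V), h⟩ (rs (tm h) a) = e h a := by
  have hl : ∀ (q : Pr X) {T : AffineZariskiSite X} (hT : T ≤ q.1.2),
      IsLeib (tm (hT.trans q.2)) ((rs (tm hT)).toAddMonoidHom.comp (e q.2)) := fun q T hT a b => by
    show rs _ (e q.2 (a * b)) = _
    rw [hmul q.2, map_add, map_mul, map_mul, rs_rs, rs_rs]
    rfl
  choose D hD hDa using fun (q : Pr X) (T : AffineZariskiSite X) (hT : T ≤ q.1.2) =>
    exists_leib (hT.trans q.2) (hl q hT)
  let d : FData (k := k) (low2 X) :=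
    { D := fun q {T} hT => D q T hT
      mul := fun q {T} hT => hD q T hT
      const := fun q {T} hT c => by
        rw [← str_rs (tm (hT.trans q.2)) c, hDa]
        show rs _ (e q.2 _) = 0
        rw [hconst, map_zero]
      res := fun q {T T'} hT hT' a => by
        let δ := (rs (tm hT')).toAddMonoidHom.comp (D q T hT)
        let δ' := (D q T' (hT'.trans hT)).comp (rs (tm hT')).toAddMonoidHom
        have hr : ∀ {Z : X.Opens} (z : Γ(X, Z)), rs (le_refl Z) z = z := fun z => AModX.resR_self z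
        have hl₁ : IsLeib (tm hT') δ := fun a b => by
          show rs _ (D q T hT (a * b)) = rs _ a * rs _ (D q T hT b) + rs _ b * rs _ (D q T hT a)
          rw [hD, hr, hr, map_add, map_mul, map_mul]
        have hl₂ : IsLeib (tm hT') δ' := fun a b => by
          show D q T' _ (rs _ (a * b)) = rs _ a * D q T' _ (rs _ b) + rs _ b * D q T' _ (rs _ a)
          rw [map_mul, hD, hr, hr]
        refine DFunLike.congr_fun (leib_ext (hT.trans q.2) (tm hT') hl₁ hl₂ fun y => ?_) a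
        show rs _ (D q T hT (rs _ y)) = D q T' _ (rs _ (rs _ y))
        rw [hDa, rs_rs, hDa]
        show rs _ (rs _ (e q.2 y)) = rs _ (e q.2 y)
        rw [rs_rs] }
  obtain ⟨φ, hφ⟩ := d.exists_hom
  refine ⟨φ, fun {U V} h a => ?_⟩
  refine (hφ V.toOpens (rs (tm h) a) ⟨(U, V), h⟩ V le_rfl le_rfl).trans ?_
  rw [show rs (le_refl V.toOpens) (rs (tm h) a) = rs (tm h) a from rs_rs _ _ _]
  refine (hDa ⟨(U, V), h⟩ V le_rfl a).trans ?_
  exact AModX.resR_self _

end Groth.Agent.DefObs29
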