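import Groth.Agent.DefObs29.Class
import Groth.Agent.DefTan29.HH

/-!
The obstruction theory of deformations of smooth separated schemes.
-/

universe u

open CategoryTheory CategoryTheory.Limits AlgebraicGeometry Opposite TopologicalSpace IsLocalRing ArtFun Abelian
open scoped TensorProduct

set_option backward.isDefEq.respectTransparency false
set_option backward.isDefEq.respectTransparency.types false

noncomputable section

namespace Groth.Agent.DefObs29

open Scheme Groth.Agent.DefGlueLib Groth.Agent.DefTan29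

variable {k : Type u} [Field k] {X : Scheme.{u}} [X.Over (Spec (CommRingCat.of k))] [QuasiSeparated (xk k X)]

local notation "x₀" => xk k X

variable (X) in
/-- The image of the coboundary on pairs. -/
abbrev Im1 : X.Modules := Abelian.image (coB1 X)

omit [X.Over (Spec (CommRingCat.of k))] [QuasiSeparated x₀] in
theorem cocy_fac : (cocy X).ι ≫ Abelian.factorThruImage (coB1 X) = 0 := by
  rw [← cancel_mono (Abelian.image.ι (coB1 X)), Category.assoc, Abelian.image.fac, zero_comp]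
  refine Scheme.Modules.hom_ext _ _ fun W => ?_
  ext s
  exact (coB1_eq_zero_iff _).2 ((cocy X).ι_app_mem W s)

variable (X) in
/-- The sequence of cochains on pairs. -/
abbrev seq1 : ShortComplex X.Modules := ShortComplex.mk (cocy X).ι (Abelian.factorThruImage (coB1 X)) cocy_fac

omit [X.Over (Spec (CommRingCat.of k))] [QuasiSeparated x₀] in
theorem seq1_shortExact : (seq1 X).ShortExact := by
  refine { exact := ?_, mono_f := ?_, epi_g := ?_ }
  · refine RelTildeX.exact_of_locally _ fun W b hb q hq => ?_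
    have hb' : (coB1 X).app W b = 0 := by
      have h1 := congrArg ((Abelian.image.ι (coB1 X)).app W) hb
      rw [map_zero] at h1
      exact (congrArg (fun f : P1 X ⟶ P2 X => f.app W b) (Abelian.image.fac (coB1 X))).symm.trans h1
    exact ⟨W, le_rfl, hq, ⟨b, (coB1_eq_zero_iff b).1 hb'⟩, (AModX.res_self b).symm⟩
  · exact QCoh.mono_of_app_injective _ fun W s t hst => Subtype.ext hst
  · exact inferInstanceAs (Epi (Abelian.factorThruImage (coB1 X)))

variable [X.IsSeparated] [Smooth (xk k X)] [HasExt.{u} X.Modules]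

variable (k X) in
/-- The class of a map to coboundaries. -/
def clExt : (Omega.sheaf x₀ ⟶ Im1 X) →ₗ[k] Ext.{u} (Omega.sheaf x₀) (Coh.structureModule X) 2 where
  toFun σ := ((Ext.mk₀ σ).comp seq1_shortExact.extClass (zero_add 1)).comp (seq_shortExact X).extClass (by norm_num)
  map_add' a b := by rw [Ext.mk₀_add, Ext.add_comp, Ext.add_comp]
  map_smul' c a := by rw [Ext.mk₀_smul, Ext.smul_comp, Ext.smul_comp]; rfl

theorem clExt_fac (φ : Omega.sheaf x₀ ⟶ P1 X) : clExt k X (φ ≫ Abelian.factorThruImage (coB1 X)) = 0 := by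
  have h : (Ext.mk₀ (φ ≫ Abelian.factorThruImage (coB1 X))).comp (seq1_shortExact (X := X)).extClass (zero_add 1) = 0 := by
    rw [← Ext.mk₀_comp_mk₀]
    exact (Ext.comp_assoc_of_second_deg_zero (Ext.mk₀ φ) (Ext.mk₀ (Abelian.factorThruImage (coB1 X)))
      seq1_shortExact.extClass (zero_add 1)).trans ((congrArg (fun z => (Ext.mk₀ φ).comp z (zero_add 1))
        seq1_shortExact.comp_extClass).trans (Ext.comp_zero _ _ _ _ _))
  show ((Ext.mk₀ _).comp seq1_shortExact.extClass (zero_add 1)).comp (seq_shortExact X).extClass (show 1 + 1 = 2 from rfl) = 0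
  rw [h, Ext.zero_comp]

theorem exists_of_clExt_eq_zero {σ : Omega.sheaf x₀ ⟶ Im1 X} (h : clExt k X σ = 0) :
    ∃ φ : Omega.sheaf x₀ ⟶ P1 X, φ ≫ Abelian.factorThruImage (coB1 X) = σ := by
  obtain ⟨y, hy⟩ := Ext.covariant_sequence_exact₃ _ (seq_shortExact X)
    ((Ext.mk₀ σ).comp seq1_shortExact.extClass (zero_add 1)) (show 1 + 1 = 2 from rfl) h
  obtain rfl : y = 0 := (subsingleton_ext_P0 (k := k) (X := X)).elim _ _
  obtain ⟨z, hz⟩ := Ext.covariant_sequence_exact₃ _ (seq1_shortExact (X := X)) (Ext.mk₀ σ) (zero_add 1)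
    (hy.symm.trans (Ext.zero_comp _ _ _ _ _))
  obtain ⟨φ, rfl⟩ := (Ext.addEquiv₀).symm.surjective z
  exact ⟨φ, Ext.addEquiv₀.symm.injective ((Ext.mk₀_comp_mk₀ φ _).symm.trans hz)⟩

variable {C C' C'' : Art k k} {p : C' ⟶ C} {q : C'' ⟶ C} {ξ₀ : DefSch X (xk k X) C}
variable (L : Sys p ξ₀) (F : Fr p) (hp : Function.Surjective p)

theorem exists_obsIm (j : Fin F.r) : ∃ σ : Omega.sheaf x₀ ⟶ Im1 X,
    ∀ {U V S : AffineZariskiSite X} (h : V ≤ U) (h' : S ≤ V) (a : Γ(X, U.toOpens)),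
      homDer (u₀ := low X) (σ ≫ Abelian.image.ι (coB1 X)) ⟨(U, V, S), h, h'⟩ (rs (tm (h'.trans h)) a) =
        L.cd F (tm h) (tm h') hp j a := by
  obtain ⟨σ, hσ⟩ := (obsData L F hp j).exists_hom
  have h0 : σ ≫ cokernel.π (coB1 X) = 0 := DefTan29.hom_ext fun W s => by
    refine AModX.eq_of_locally _ _ fun q hq => ?_
    obtain ⟨B, hqB, hB⟩ := DefGlueLib.exists_site_le hq
    refine ⟨B.toOpens, hB, hqB, ?_⟩
    obtain ⟨b, hb⟩ := exists_primitive L F hp j hσ s hB
    show AModX.res _ hB ((cokernel.π (coB1 X)).app W (σ.app W ((OmegaSh.dOmega x₀).app W s))) =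
      AModX.res _ hB (0 : Γ(cokernel (coB1 X), W))
    rw [map_zero, ← AModX.app_res, ← hb]
    exact congrArg (fun f : P1 X ⟶ cokernel (coB1 X) => f.app B.toOpens b) (cokernel.condition (coB1 X))
  refine ⟨kernel.lift _ σ h0, fun {U V S} h h' a => ?_⟩
  rw [show kernel.lift (cokernel.π (coB1 X)) σ h0 ≫ Abelian.image.ι (coB1 X) = σ from kernel.lift_ι _ _ _]
  set x := rs (tm (h'.trans h)) a with hx
  refine (hσ S.toOpens x ⟨(U, V, S), h, h'⟩ S le_rfl le_rfl).trans ?_
  refine (rs_dd_eq_bt L F hp j h h' (le_refl S) x).symm.trans ?_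
  rw [hx, dd_apply]
  exact AModX.resR_self _

/-- The obstruction cochain. -/
def obsIm (j : Fin F.r) : Omega.sheaf x₀ ⟶ Im1 X := (exists_obsIm L F hp j).choose

theorem homDer_obsIm (j : Fin F.r) {U V S : AffineZariskiSite X} (h : V ≤ U) (h' : S ≤ V) (a : Γ(X, U.toOpens)) :
    homDer (u₀ := low X) (obsIm L F hp j ≫ Abelian.image.ι (coB1 X)) ⟨(U, V, S), h, h'⟩ (rs (tm (h'.trans h)) a) =
      L.cd F (tm h) (tm h') hp j a :=
  (exists_obsIm L F hp j).choose_spec h h' a

theorem change (T : Tgt q ξ₀) (F' : Fr q) (hq : Function.Surjective q) (g : C' ⟶ C'') (hg : g ≫ q = p)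
    (i : Fin F'.r) (σ : Omega.sheaf x₀ ⟶ Im1 X)
    (hσ : ∀ {U V S : AffineZariskiSite X} (h : V ≤ U) (h' : S ≤ V) (z : T.D.R.obj (op U)),
      homDer (u₀ := low X) (σ ≫ Abelian.image.ι (coB1 X)) ⟨(U, V, S), h, h'⟩
        (rs (tm (h'.trans h)) ((T.D.qU U).hom z)) = tcd T F' i h h' z) :
    clExt k X σ = ∑ j, F'.l i (g (F.ys j)) • clExt k X (obsIm L F hp j) := by
  obtain ⟨φ, hφ⟩ := exists_cobound L F hp T F' hq g hg i
  have e : σ = ∑ j, F'.l i (g (F.ys j)) • obsIm L F hp j + φ ≫ Abelian.factorThruImage (coB1 X) := by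
    rw [← cancel_mono (Abelian.image.ι (coB1 X)), Preadditive.add_comp, Preadditive.sum_comp, Category.assoc,
      Abelian.image.fac]
    refine p2_hom_ext fun {U V S} h h' a => ?_
    obtain ⟨z, rfl⟩ := map_qU_surjective T.D U a
    refine (hσ h h' z).trans ((hφ h h' z).trans ?_)
    rw [homDer_add]
    refine congrArg (· + _) ?_
    show _ = homDerHom (k := k) (u₀ := low X) ⟨(U, V, S), h, h'⟩ (rs (tm (h'.trans h)) ((T.D.q.app (op U)).hom z))
      (∑ j, (F'.l i (g (F.ys j)) • obsIm L F hp j) ≫ Abelian.image.ι (coB1 X))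
    rw [map_sum]
    refine Finset.sum_congr rfl fun j _ => ?_
    show _ = homDer (k := k) (u₀ := low X) ((F'.l i (g (F.ys j)) • obsIm L F hp j) ≫ Abelian.image.ι (coB1 X))
      ⟨(U, V, S), h, h'⟩ (rs (tm (h'.trans h)) ((T.D.q.app (op U)).hom z))
    rw [Linear.smul_comp, homDer_smul, homDer_obsIm L F hp j h h']
    rfl
  rw [e, map_add, clExt_fac, add_zero, map_sum]
  exact Finset.sum_congr rfl fun j _ => map_smul _ _ _

theorem nonempty_spl_of_cl (h : ∀ j, clExt k X (obsIm L F hp j) = 0) : Nonempty (Spl F L hp) := by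
  choose φ hφ using fun j => exists_of_clExt_eq_zero (h j)
  exact ⟨{
    e := fun j {U V} h => homDer (u₀ := low2 X) (φ j) ⟨(U, V), h⟩
    mul := fun j {U V} h a b => by
      have h1 := homDer_mul (u₀ := low2 X) (φ j) ⟨(U, V), h⟩ a b
      have e1 : rs (le_refl V.toOpens) a = a := AModX.resR_self a
      have e2 : rs (le_refl V.toOpens) b = b := AModX.resR_self b
      rw [e1, e2] at h1
      exact h1
    const := fun j {U V} h c => homDer_const (u₀ := low2 X) (φ j) ⟨(U, V), h⟩ c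
    rel := fun j {U V S} h h' a => by
      rw [← homDer_obsIm L F hp j h h' a, ← homDer_coB1 (φ j) h h' a, ← hφ j, Category.assoc, Abelian.image.fac] }⟩

theorem cl_eq_zero_of_lift (ξ : DefSch X (xk k X) C') (e : (ξ.baseChange p).Iso ξ₀) (j : Fin F.r) :
    clExt k X (obsIm L F hp j) = 0 := by
  classical
  let π : PHom p (ofSch ξ) (ofSch ξ₀) := ((Ov.proj ξ p).isoComp e.symm).sec
  let T : Tgt p ξ₀ :=
    { D := ofSch ξ
      Ψ := fun U => (π.app.app (op U)).hom
      Ψ_a := fun U c => π.comm (op U) c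
      Ψ_q := fun U z => phom_q π (op U) z
      Φ := fun {U V} h => ((ofSch ξ).R.map (homOfLE h).op).hom
      Φ_a := fun {U V} h c => (ofSch ξ).a_map (homOfLE h).op c
      Φ_Ψ := fun {U V} h z => ConcreteCategory.congr_hom (π.app.naturality (homOfLE h).op) z }
  have h := change L F hp T F hp (𝟙 C') (Category.id_comp p) j 0 (fun {U V S} h h' z => by
    rw [zero_comp]
    refine Eq.trans (b := (0 : Γ(X, S.toOpens)))
      ((homDerHom (k := k) (u₀ := low X) ⟨(U, V, S), h, h'⟩ _).map_zero) (Eq.symm ?_)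
    show pair _ _ _ = 0
    rw [show T.Φ h' (T.Φ h z) = T.Φ (h'.trans h) z from
      (ConcreteCategory.congr_hom ((ofSch ξ).R.map_comp (homOfLE h).op (homOfLE h').op) z).symm, sub_self, pair_zero])
  rw [map_zero] at h
  refine Eq.trans ?_ h.symm
  rw [Finset.sum_eq_single j]
  · rw [show F.l j ((𝟙 C' : C' ⟶ C') (F.ys j)) = 1 from (F.l_ys j j).trans (if_pos rfl), one_smul]
  · intro i _ hij
    rw [show F.l j ((𝟙 C' : C' ⟶ C') (F.ys i)) = 0 from (F.l_ys i j).trans (if_neg hij), zero_smul]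
  · exact fun h => (h (Finset.mem_univ j)).elim

variable {V : Type u} [AddCommGroup V] [Module k V]
  (eV : Ext.{u} (Omega.sheaf (xk k X)) (Coh.structureModule X) 2 ≃ₗ[k] V)

/-- The obstruction element. -/
def obsEl : V ⊗[k] ↥(RingHom.ker p.toAlgHom) :=
  ∑ j, eV (clExt k X (obsIm L F hp j)) ⊗ₜ[k] (⟨F.ys j, F.map_ys j⟩ : ↥(RingHom.ker p.toAlgHom))

theorem obsEl_eq_zero_iff : obsEl L F hp eV = 0 ↔ ∀ j, clExt k X (obsIm L F hp j) = 0 := by
  classical
  refine ⟨fun h i => ?_, fun h => Finset.sum_eq_zero fun j _ => by rw [h j, map_zero, TensorProduct.zero_tmul]⟩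
  let li : ↥(RingHom.ker p.toAlgHom) →ₗ[k] k := (F.l i).comp ((RingHom.ker p.toAlgHom).restrictScalars k).subtype
  have h1 := congrArg (fun z => TensorProduct.rid k V (LinearMap.lTensor V li z)) h
  simp only [obsEl, map_sum, map_zero, LinearMap.lTensor_tmul, TensorProduct.rid_tmul] at h1
  rw [Finset.sum_eq_single i] at h1
  · rw [show li ⟨F.ys i, F.map_ys i⟩ = 1 from (F.l_ys i i).trans (if_pos rfl), one_smul] at h1
    exact eV.map_eq_zero_iff.1 h1
  · intro j _ hji
    rw [show li ⟨F.ys j, F.map_ys j⟩ = 0 from (F.l_ys j i).trans (if_neg hji), zero_smul]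
  · exact fun h => (h (Finset.mem_univ i)).elim

theorem obsEl_change (L' : Sys q ξ₀) (F' : Fr q) (hq : Function.Surjective q) (g : C' ⟶ C'') (hg : g ≫ q = p)
    (gk : ↥(RingHom.ker p.toAlgHom) →ₗ[k] ↥(RingHom.ker q.toAlgHom)) (hgk : ∀ y, (gk y : C'') = g y) :
    obsEl L' F' hq eV = LinearMap.lTensor V gk (obsEl L F hp eV) := by
  have hc : ∀ i, clExt k X (obsIm L' F' hq i) = ∑ j, F'.l i (g (F.ys j)) • clExt k X (obsIm L F hp j) := fun i =>
    change L F hp L'.tgt F' hq g hg i _ fun {U W S} h h' z =>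
      (homDer_obsIm L' F' hq i h h' _).trans (L'.cd_q F' (tm h) (tm h') hq i z)
  have hy : ∀ j, gk ⟨F.ys j, F.map_ys j⟩ =
      ∑ i, F'.l i (g (F.ys j)) • (⟨F'.ys i, F'.map_ys i⟩ : ↥(RingHom.ker q.toAlgHom)) := fun j => by
    refine Subtype.ext ?_
    rw [hgk, AddSubmonoidClass.coe_finset_sum]
    refine (F'.expand _ ?_).trans (Finset.sum_congr rfl fun i _ => (Algebra.smul_def _ _).symm)
    rw [← hgk ⟨F.ys j, F.map_ys j⟩]
    exact (gk _).2
  simp only [obsEl, map_sum, LinearMap.lTensor_tmul, hc, hy, TensorProduct.tmul_sum, TensorProduct.sum_tmul,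
    map_smul, TensorProduct.tmul_smul, TensorProduct.smul_tmul']
  exact Finset.sum_comm

variable (k X) in
theorem hasObsTheory [QuasiCompact (xk k X)] (eV : Ext.{u} (Omega.sheaf (xk k X)) (Coh.structureModule X) 2 ≃ₗ[k] V) :
    HasObsTheory (defFunctor (Λ := k) X (xk k X)) V := by
  classical
  let rep : ∀ {C : Art k k}, (defFunctor (Λ := k) X (xk k X)).obj C → DefSch X (xk k X) C :=
    fun u => (cl_surjective u).choose
  have hrep : ∀ {C : Art k k} (u : (defFunctor (Λ := k) X (xk k X)).obj C), (rep u).cl = u :=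
    fun u => (cl_surjective u).choose_spec
  let obs : ∀ {C' C : Art k k} (p : C' ⟶ C), Art.IsSemismallExt p → (defFunctor (Λ := k) X (xk k X)).obj C →
      V ⊗[k] ↥(RingHom.ker p.toAlgHom) := fun {C' C} p hp u =>
    obsEl (nonempty_sys p (rep u) hp.1).some (nonempty_fr hp).some hp.1 eV
  refine ⟨{ obs := obs
            obs_eq_zero_iff := fun {C' C} p hp u => ?_
            obs_quot := fun {C' C} p hp K hK hKJ hq u => ?_ }⟩
  · rw [obsEl_eq_zero_iff]
    constructor
    · intro h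
      obtain ⟨E⟩ := nonempty_spl_of_cl _ _ hp.1 h
      refine ⟨E.pdef.toDefSch.cl, ?_⟩
      exact (map_cl_of_phom E.proj).trans ((cl_toDefSch_ofSch (rep u)).trans (hrep u))
    · rintro ⟨u', hu'⟩ j
      obtain ⟨ξ, rfl⟩ := cl_surjective u'
      obtain ⟨e⟩ := cl_eq_iff.1 (show (ξ.baseChange p).cl = (rep u).cl from hu'.trans (hrep u).symm)
      exact cl_eq_zero_of_lift _ _ hp.1 ξ e j
  · exact obsEl_change _ _ hp.1 eV _ _ hq.1 (Art.quotMk C' K hK) (Art.quotMk_quotFactor hK p hKJ) _ fun y => rfl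

end Groth.Agent.DefObs29
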